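import Mathlib
import Cfsg.Agent.Lib.ConjFunctor.Alperin
import Cfsg.Agent.Lib.Coprime.Basic

/-!
A subgroup whose lower central series is strongly closed has a normalizer controlling strong fusion.
-/

set_option autoImplicit false

namespace Cfsg.Agent.Lib.StrongControl

open Subgroup
open Cfsg.Agent.Lib.ConjFunctor (cj mem_cj cj_le_iff cj_mono)
open scoped commutatorElement

variable {G : Type*} [Group G]

/-- The lower central series of `W` as subgroups of the ambient group. -/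
def lcs (W : Subgroup G) : ℕ → Subgroup G
  | 0 => W
  | i + 1 => ⁅lcs W i, W⁆

theorem normalizer_le_lcs (W : Subgroup G) (i : ℕ) :
    Subgroup.normalizer (W : Set G) ≤ Subgroup.normalizer (lcs W i : Set G) := by
  induction i with
  | zero => exact le_rfl
  | succ i ih => exact Coprime.le_normalizer_commutator ih le_rfl

theorem lcs_le (W : Subgroup G) (i : ℕ) : lcs W i ≤ W := by
  induction i with
  | zero => exact le_rfl
  | succ i ih => exact (commutator_mono ih le_rfl).trans (commutator_le_self W)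

theorem exists_lcs_eq_bot {p : ℕ} [Fact p.Prime] [Finite G] {W : Subgroup G}
    (hW : IsPGroup p W) : ∃ n, lcs W n = ⊥ := by
  haveI := hW.isNilpotent
  obtain ⟨n, hn⟩ := (isNilpotent_iff_lowerCentralSeries W).mp inferInstance
  refine ⟨n, le_bot_iff.mp (hn ▸ ?_)⟩
  clear hn
  induction n with
  | zero => exact le_rfl
  | succ n ih =>
    rw [Subgroup.lowerCentralSeries_succ]
    exact commutator_mono ih le_rfl

variable [Finite G] {p : ℕ} [Fact p.Prime]

theorem exists_fn {S : Subgroup G} (hS : IsPGroup p S) (hSi : ¬ p ∣ S.index) (T : Subgroup G)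
    (hT : T ≤ S) : ∃ g : G, cj g T ≤ S ∧ ConjFunctor.FN p S (cj g T) := by
  obtain ⟨Q, hNQ, hQ, hQp, hQi⟩ := ConjFunctor.exists_sylow_above
    (inf_le_right : S ⊓ Subgroup.normalizer (T : Set G) ≤ _) (hS.to_le inf_le_left)
  obtain ⟨y, -, hy⟩ := ConjFunctor.exists_conj_le (H := (⊤ : Subgroup G)) (Q := S) le_top hQp
    le_top hS (by rwa [Subgroup.relIndex_top_right])
  refine ⟨y, (cj_mono y ((le_inf hT le_normalizer).trans hNQ)).trans hy, ?_⟩
  rw [ConjFunctor.FN, ConjFunctor.normalizer_cj]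
  have h2 : cj y Q = S ⊓ cj y (Subgroup.normalizer (T : Set G)) :=
    ConjFunctor.eq_of_sylow_le inf_le_right (hS.to_le inf_le_left) (le_inf hy (cj_mono y hQ))
      (by rw [ConjFunctor.relIndex_cj]; exact hQi)
  rw [← h2, ConjFunctor.relIndex_cj]
  exact hQi

/-- `g` agrees on `T` with an element normalising `W`. -/
def Extends (W : Subgroup G) (T : Set G) (g : G) : Prop :=
  ∃ h ∈ Subgroup.normalizer (W : Set G), ∀ a ∈ T, h * a * h⁻¹ = g * a * g⁻¹

theorem extends_of_steps {W : Subgroup G} {𝓕 : Set (Subgroup G)} {A : Set G} {g : G}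
    (hs : ConjFunctor.Steps 𝓕 A g) : ∀ m : ℕ, (∀ U ∈ 𝓕, m ≤ Nat.card U →
      ∀ x ∈ Subgroup.normalizer (U : Set G), Extends W (U : Set G) x) →
    m ≤ A.ncard → Extends W A g := by
  induction hs with
  | nil A => intro m _ _; exact ⟨1, one_mem _, fun a _ => rfl⟩
  | @cons A g T x hT hA hx _ ih =>
    intro m hkey hm
    obtain ⟨h1, hh1, ha1⟩ := hkey T hT
      (hm.trans ((Set.ncard_le_ncard hA (Set.toFinite _)).trans (le_of_eq rfl))) x hx
    obtain ⟨h2, hh2, ha2⟩ := ih m hkey (by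
      rwa [Set.ncard_image_of_injective _ (fun a b hab =>
        mul_left_cancel (mul_right_cancel hab))])
    refine ⟨h2 * h1, mul_mem hh2 hh1, fun a ha => ?_⟩
    calc h2 * h1 * a * (h2 * h1)⁻¹ = h2 * (h1 * a * h1⁻¹) * h2⁻¹ := by group
      _ = h2 * (x * a * x⁻¹) * h2⁻¹ := by rw [ha1 a (hA ha)]
      _ = g * (x * a * x⁻¹) * g⁻¹ := ha2 _ ⟨a, ha, rfl⟩
      _ = g * x * a * (g * x)⁻¹ := by group

/-- One step: a morphism of a fully normalised subgroup extends. -/
theorem extends_normalizer {S W : Subgroup G} (hS : IsPGroup p S) (hWS : W ≤ S)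
    (hSW : S ≤ Subgroup.normalizer (W : Set G))
    (hclosed : ∀ i, ∀ a ∈ lcs W i, ∀ g : G, g * a * g⁻¹ ∈ S → g * a * g⁻¹ ∈ lcs W i)
    {U : Subgroup G} (hUS : U ≤ S) (hfn : ConjFunctor.FN p S U)
    (IH : ∀ T : Subgroup G, T ≤ S → Nat.card U < Nat.card T → ∀ g : G, cj g T ≤ S →
      Extends W (T : Set G) g)
    {x : G} (hx : x ∈ Subgroup.normalizer (U : Set G)) : Extends W (U : Set G) x := by
  by_cases hWU : W ≤ U
  · refine ⟨x, ?_, fun a _ => rfl⟩
    rw [ConjFunctor.mem_normalizer_iff_cj]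
    refine Subgroup.eq_of_le_of_card_ge (cj_le_iff.mpr fun w hw =>
      hclosed 0 w hw x (hUS ((mem_normalizer_iff.mp hx w).mp (hWU hw)))) ?_
    rw [ConjFunctor.card_cj]
  obtain ⟨n, hn⟩ := exists_lcs_eq_bot (hS.to_le hWS)
  -- the last term not contained in `U`
  have hex : ∃ i, ¬ lcs W i ≤ U ∧ lcs W (i + 1) ≤ U := by
    by_contra h
    push Not at h
    have : ∀ i, ¬ lcs W i ≤ U := by
      intro i
      induction i with
      | zero => exact hWU
      | succ i ih => exact h i ih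
    exact this n (hn ▸ bot_le)
  obtain ⟨i, hi, -⟩ := hex
  set N := Subgroup.normalizer (U : Set G) with hN
  -- the stabiliser of the induced series
  let D : ℕ → Subgroup G := fun j => match j with
    | 0 => U
    | j + 1 => U ⊓ lcs W (i + j)
  have hDU : ∀ j, D j ≤ U := fun j => by
    cases j with
    | zero => exact le_rfl
    | succ j => exact inf_le_left
  have hDinv : ∀ j, ∀ g ∈ N, ∀ a ∈ D j, g * a * g⁻¹ ∈ D j := by
    intro j g hg a ha
    cases j with
    | zero => exact (mem_normalizer_iff.mp hg a).mp ha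
    | succ j =>
      have haU : g * a * g⁻¹ ∈ U := (mem_normalizer_iff.mp hg a).mp (mem_inf.mp ha).1
      exact mem_inf.mpr ⟨haU, hclosed _ a (mem_inf.mp ha).2 g (hUS haU)⟩
  let K : Subgroup G :=
    { carrier := {k | k ∈ N ∧ ∀ j, ∀ u ∈ D j, k * u * k⁻¹ * u⁻¹ ∈ D (j + 1)}
      one_mem' := ⟨N.one_mem, fun j u _ => by simp⟩
      mul_mem' := fun {a b} ha hb => ⟨N.mul_mem ha.1 hb.1, fun j u hu => by
        rw [show a * b * u * (a * b)⁻¹ * u⁻¹ =
          (a * (b * u * b⁻¹ * u⁻¹) * a⁻¹) * (a * u * a⁻¹ * u⁻¹) by group]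
        exact (D (j + 1)).mul_mem (hDinv (j + 1) a ha.1 _ (hb.2 j u hu)) (ha.2 j u hu)⟩
      inv_mem' := fun {a} ha => ⟨N.inv_mem ha.1, fun j u hu => by
        rw [show a⁻¹ * u * a⁻¹⁻¹ * u⁻¹ = a⁻¹ * (a * u * a⁻¹ * u⁻¹)⁻¹ * a⁻¹⁻¹ by group]
        exact hDinv (j + 1) _ (N.inv_mem ha.1) _ ((D (j + 1)).inv_mem (ha.2 j u hu))⟩ }
  have hKN : K ≤ N := fun k hk => hk.1
  have hKinv : ∀ g ∈ N, ∀ k ∈ K, g * k * g⁻¹ ∈ K := by
    intro g hg k hk
    refine ⟨N.mul_mem (N.mul_mem hg hk.1) (N.inv_mem hg), fun j u hu => ?_⟩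
    have hu' : g⁻¹ * u * g⁻¹⁻¹ ∈ D j := hDinv j _ (N.inv_mem hg) u hu
    rw [show g * k * g⁻¹ * u * (g * k * g⁻¹)⁻¹ * u⁻¹ =
      g * (k * (g⁻¹ * u * g⁻¹⁻¹) * k⁻¹ * (g⁻¹ * u * g⁻¹⁻¹)⁻¹) * g⁻¹ by group]
    exact hDinv (j + 1) g hg _ (hk.2 j _ hu')
  have hXK : lcs W i ⊓ N ≤ K := by
    intro y hy
    obtain ⟨hyL, hyN⟩ := mem_inf.mp hy
    refine ⟨hyN, fun j u hu => ?_⟩
    have hyu : y * u * y⁻¹ * u⁻¹ ∈ U :=
      U.mul_mem ((mem_normalizer_iff.mp hyN u).mp (hDU j hu)) (U.inv_mem (hDU j hu))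
    refine mem_inf.mpr ⟨hyu, ?_⟩
    cases j with
    | zero =>
      rw [show y * u * y⁻¹ * u⁻¹ = y * (u * y⁻¹ * u⁻¹) by group]
      exact (lcs W (i + 0)).mul_mem hyL
        ((mem_normalizer_iff.mp (normalizer_le_lcs W i (hSW (hUS hu))) y⁻¹).mp
          ((lcs W i).inv_mem hyL))
    | succ j =>
      have h : ⁅u, y⁆ ∈ lcs W (i + j + 1) :=
        commutator_mem_commutator (mem_inf.mp hu).2 (lcs_le W i hyL)
      rw [show y * u * y⁻¹ * u⁻¹ = ⁅y, u⁆ from (commutatorElement_def y u).symm,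
        ← commutatorElement_inv]
      exact (lcs W (i + (j + 1))).inv_mem h
  -- `p'`-elements of `K` centralise `U`
  have hcop : ∀ k ∈ K, (orderOf k).Coprime p → ∀ u ∈ U, k * u * k⁻¹ = u := by
    intro k hk hco
    suffices h : ∀ m j, n + 1 ≤ j + m → ∀ u ∈ D j, k * u * k⁻¹ = u from
      fun u hu => h (n + 1) 0 (by omega) u hu
    intro m
    induction m with
    | zero =>
      intro j hj u hu
      obtain ⟨j', rfl⟩ : ∃ j', j = j' + 1 := ⟨j - 1, by omega⟩
      have hbot : lcs W (i + j') = ⊥ := by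
        obtain ⟨d, hd⟩ := Nat.exists_eq_add_of_le (show n ≤ i + j' by omega)
        rw [hd]
        clear hd hj
        induction d with
        | zero => exact hn
        | succ d ihd =>
          show ⁅lcs W (n + d), W⁆ = ⊥
          rw [ihd, commutator_bot_left]
      have hu1 : u ∈ lcs W (i + j') := (mem_inf.mp hu).2
      rw [hbot, mem_bot] at hu1
      simp [hu1]
    | succ m ihm =>
      intro j hj u hu
      set e := k * u * k⁻¹ * u⁻¹ with he
      have heD : e ∈ D (j + 1) := hk.2 j u hu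
      have hefix : k * e * k⁻¹ = e := ihm (j + 1) (by omega) e heD
      have key : ∀ l : ℕ, k ^ l * u * (k ^ l)⁻¹ = e ^ l * u := by
        intro l
        induction l with
        | zero => simp
        | succ l ihl =>
          have hel : k * e ^ l * k⁻¹ = e ^ l := by rw [← conj_pow, hefix]
          calc k ^ (l + 1) * u * (k ^ (l + 1))⁻¹ = k * (k ^ l * u * (k ^ l)⁻¹) * k⁻¹ := by
                rw [pow_succ']; group
            _ = (k * e ^ l * k⁻¹) * (k * u * k⁻¹) := by rw [ihl]; group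
            _ = e ^ l * (k * u * k⁻¹) := by rw [hel]
            _ = e ^ (l + 1) * u := by rw [pow_succ, he]; group
      have h2 := key (orderOf k)
      rw [pow_orderOf_eq_one, one_mul, inv_one, mul_one, right_eq_mul] at h2
      obtain ⟨a, ha⟩ := (hS.to_le (hUS)) ⟨e, hDU (j + 1) heD⟩
      have he1 : e = 1 := orderOf_eq_one_iff.mp (Nat.eq_one_of_dvd_coprimes (hco.pow_right a)
        (orderOf_dvd_of_pow_eq_one h2) (orderOf_dvd_of_pow_eq_one (congrArg Subtype.val ha)))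
      rw [he, mul_inv_eq_one] at he1
      exact he1
  -- a Sylow subgroup of `K`
  set R := S ⊓ K with hR
  have hRK : R ≤ K := inf_le_right
  have hRp : IsPGroup p R := hS.to_le inf_le_left
  have hRi : ¬ p ∣ R.relIndex K := by
    refine ConjFunctor.not_dvd_relIndex_of_max hRK hRp fun Q hQK hQp hle => ?_
    refine (Subgroup.eq_of_le_of_card_ge hle ?_).symm
    obtain ⟨h, hh, hhle⟩ := ConjFunctor.exists_conj_le (H := N) (Q := S ⊓ N) (hQK.trans hKN) hQp
      inf_le_right (hS.to_le inf_le_left) hfn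
    rw [← ConjFunctor.card_cj h Q]
    exact Subgroup.card_le_of_le (le_inf (hhle.trans inf_le_left)
      (cj_le_iff.mpr fun q hq => hKinv h hh q (hQK hq)))
  -- `K = C R`
  set C := K ⊓ centralizer (U : Set G) with hC
  have hCnorm : ∀ r ∈ K, ∀ c ∈ C, r * c * r⁻¹ ∈ C := by
    intro r hr c hc
    refine mem_inf.mpr ⟨K.mul_mem (K.mul_mem hr (mem_inf.mp hc).1) (K.inv_mem hr),
      mem_centralizer_iff.mpr fun u hu => ?_⟩
    have hu' : r⁻¹ * u * r⁻¹⁻¹ ∈ U := (mem_normalizer_iff.mp (N.inv_mem (hKN hr)) u).mp hu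
    have h := mem_centralizer_iff.mp (mem_inf.mp hc).2 _ hu'
    calc u * (r * c * r⁻¹) = r * ((r⁻¹ * u * r⁻¹⁻¹) * c) * r⁻¹ := by group
      _ = r * (c * (r⁻¹ * u * r⁻¹⁻¹)) * r⁻¹ := by rw [h]
      _ = r * c * r⁻¹ * u := by group
  have hJ : C ⊔ R = K := by
    have hle : C ⊔ R ≤ K := sup_le inf_le_left hRK
    have hidx : (C ⊔ R).relIndex K = 1 := by
      by_contra h
      obtain ⟨q, hq, hqd⟩ := Nat.exists_prime_and_dvd h
      haveI := Fact.mk hq
      by_cases hqp : q = p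
      · subst hqp
        exact hRi (hqd.trans (Subgroup.relIndex_dvd_of_le_left K le_sup_right))
      · obtain ⟨Q⟩ : Nonempty (Sylow q K) := inferInstance
        have hQJ : (Q : Subgroup K) ≤ (C ⊔ R).subgroupOf K := by
          intro y hy
          obtain ⟨a, ha⟩ := Q.2 ⟨y, hy⟩
          refine mem_subgroupOf.mpr (mem_sup_left (mem_inf.mpr ⟨y.2,
            mem_centralizer_iff.mpr fun u hu => ?_⟩))
          have hyp : ((y : G)) ^ q ^ a = 1 := congrArg (fun z : (Q : Subgroup K) => ((z : K) : G)) ha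
          exact (mul_inv_eq_iff_eq_mul.mp (hcop y y.2 (Nat.Coprime.coprime_dvd_left
            (orderOf_dvd_of_pow_eq_one hyp)
            (((Nat.coprime_primes hq Fact.out).mpr hqp).pow_left a)) u hu)).symm
        exact Q.not_dvd_index (hqd.trans (Subgroup.index_dvd_of_le hQJ))
    exact le_antisymm hle (Subgroup.relIndex_eq_one.mp hidx)
  -- Frattini
  obtain ⟨k, hk, hkle⟩ := ConjFunctor.exists_conj_le (H := K) (P := cj x R) (Q := R)
    (cj_le_iff.mpr fun r hr => hKinv x hx r (hRK hr)) (ConjFunctor.isPGroup_cj x hRp) hRK hRp hRi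
  obtain ⟨c, hc, r, hr, hkeq⟩ : ∃ c ∈ C, ∃ r ∈ R, k = c * r := by
    have hk' : k ∈ ((C ⊔ R : Subgroup G) : Set G) := by rw [hJ]; exact hk
    rw [coe_mul_of_right_le_normalizer_left C R (fun r hr => ?_)] at hk'
    · obtain ⟨c, hc, r, hr, he⟩ := hk'
      exact ⟨c, hc, r, hr, he.symm⟩
    · rw [mem_normalizer_iff]
      intro c
      refine ⟨hCnorm r (hRK hr) c, fun h => ?_⟩
      have := hCnorm r⁻¹ (K.inv_mem (hRK hr)) _ h
      rwa [show r⁻¹ * (r * c * r⁻¹) * r⁻¹⁻¹ = c by group] at this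
  set g' := k * x with hg'
  have hg'U : g' ∈ N := N.mul_mem (hKN hk) hx
  have hg'R : cj g' R ≤ R := by rw [hg', ← ConjFunctor.cj_cj]; exact hkle
  -- the larger subgroup
  have hlt : U < U ⊔ R := by
    refine lt_of_le_of_ne le_sup_left fun he => ?_
    have hRU : R ≤ U := by rw [he]; exact le_sup_right
    set M := U ⊔ lcs W i with hM
    have hMS : M ≤ S := sup_le hUS ((lcs_le W i).trans hWS)
    have hUM : U < M := lt_of_le_of_ne le_sup_left fun h => hi (by rw [h]; exact le_sup_right)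
    obtain ⟨y, hy, hyU⟩ := SetLike.exists_of_lt (ConjFunctor.lt_inf_normalizer (hS.to_le hMS) hUM)
    obtain ⟨hyM, hyN⟩ := mem_inf.mp hy
    have hyM' : y ∈ ((U ⊔ lcs W i : Subgroup G) : Set G) := hyM
    rw [coe_mul_of_left_le_normalizer_right U (lcs W i)
      (hUS.trans (hSW.trans (normalizer_le_lcs W i)))] at hyM'
    obtain ⟨u, hu, l, hl, rfl⟩ := hyM'
    have hlN : l ∈ N := by
      have := N.mul_mem (N.inv_mem (Subgroup.le_normalizer hu)) hyN
      rwa [inv_mul_cancel_left] at this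
    have hlR : l ∈ R := mem_inf.mpr ⟨hWS (lcs_le W i hl), hXK (mem_inf.mpr ⟨hl, hlN⟩)⟩
    exact hyU (U.mul_mem hu (hRU hlR))
  have hT' : U ⊔ R ≤ S := sup_le hUS inf_le_left
  have hT'g : cj g' (U ⊔ R) ≤ S := by
    show (U ⊔ R).map _ ≤ S
    rw [Subgroup.map_sup]
    exact sup_le ((cj_le_iff.mpr fun u hu => (mem_normalizer_iff.mp hg'U u).mp hu).trans hUS)
      (hg'R.trans inf_le_left)
  obtain ⟨h, hh, hha⟩ := IH (U ⊔ R) hT' (ConjFunctor.card_lt_card_of_lt hlt) g' hT'g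
  have hrS : r ∈ Subgroup.normalizer (W : Set G) := hSW (mem_inf.mp hr).1
  refine ⟨r⁻¹ * h, mul_mem (inv_mem hrS) hh, fun u hu => ?_⟩
  set v := r * (x * u * x⁻¹) * r⁻¹ with hv
  have hvU : v ∈ U := (mem_normalizer_iff.mp (hKN (hRK hr)) _).mp ((mem_normalizer_iff.mp hx u).mp hu)
  have hcv : c * v * c⁻¹ = v :=
    mul_inv_eq_iff_eq_mul.mpr (mem_centralizer_iff.mp (mem_inf.mp hc).2 v hvU).symm
  calc r⁻¹ * h * u * (r⁻¹ * h)⁻¹ = r⁻¹ * (h * u * h⁻¹) * r := by group
    _ = r⁻¹ * (g' * u * g'⁻¹) * r := by rw [hha u (mem_sup_left hu)]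
    _ = r⁻¹ * (c * v * c⁻¹) * r := by rw [hg', hkeq, hv]; group
    _ = r⁻¹ * v * r := by rw [hcv]
    _ = x * u * x⁻¹ := by rw [hv]; group

/-- Strongly closed lower central series ⇒ the normalizer controls strong fusion. -/
theorem extends_of_closed {S W : Subgroup G} (hS : IsPGroup p S) (hSi : ¬ p ∣ S.index)
    (hWS : W ≤ S) (hSW : S ≤ Subgroup.normalizer (W : Set G))
    (hclosed : ∀ i, ∀ a ∈ lcs W i, ∀ g : G, g * a * g⁻¹ ∈ S → g * a * g⁻¹ ∈ lcs W i)
    (T : Subgroup G) (hT : T ≤ S) (g : G) (hg : cj g T ≤ S) : Extends W (T : Set G) g := by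
  induction hn : Nat.card S - Nat.card T using Nat.strong_induction_on generalizing T g with
  | _ d ih =>
    set 𝓕 : Set (Subgroup G) := {U | U ≤ S ∧ ConjFunctor.FN p S U}
    have hsteps : ConjFunctor.Steps 𝓕 (T : Set G) g :=
      ConjFunctor.steps_of_conj hS 𝓕 (fun U hU => hU.1) (fun A hA => by
        obtain ⟨a, ha, hafn⟩ := exists_fn hS hSi A hA
        exact ⟨cj a A, ⟨ha, hafn⟩, ⟨a, rfl⟩, hafn⟩) T hT g hg
    refine extends_of_steps hsteps (Nat.card T) ?_ (le_of_eq (Nat.card_coe_set_eq _))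
    rintro U ⟨hUS, hfn⟩ hcard x hx
    refine extends_normalizer hS hWS hSW hclosed hUS hfn (fun T' hT' hlt g' hg' => ?_) hx
    refine ih _ ?_ T' hT' g' hg' rfl
    have h1 : Nat.card T' ≤ Nat.card S := Subgroup.card_le_of_le hT'
    omega

end Cfsg.Agent.Lib.StrongControl
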