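import Mathlib
import Cfsg.Agent.Lib.StrongControl.Series
import Cfsg.Agent.Lib.FusionMod.Basic

/-!
Control of strong fusion passes from a normal subgroup to the group.
-/

set_option autoImplicit false

namespace Cfsg.Agent.Lib.StrongControl

open Subgroup
open Cfsg.Agent.Lib.ConjFunctor (cj mem_cj cj_le_iff cj_mono)

variable {G : Type*} [Group G]

/-- `N_N(V)` controls strong fusion in `S` with respect to `N`. -/
def Ctrl (N S V : Subgroup G) : Prop :=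
  V ≤ S ∧ ∀ A : Subgroup G, A ≤ S → ∀ n ∈ N, cj n A ≤ S →
    ∃ h ∈ N ⊓ Subgroup.normalizer (V : Set G), ∀ a ∈ A, h * a * h⁻¹ = n * a * n⁻¹

theorem ctrl_bot (N S : Subgroup G) : Ctrl N S ⊥ := by
  refine ⟨bot_le, fun A _ n hn _ => ⟨n, mem_inf.mpr ⟨hn, ?_⟩, fun a _ => rfl⟩⟩
  rw [ConjFunctor.mem_normalizer_iff_cj, ConjFunctor.cj_bot]

theorem ctrl_sup {N S V₁ V₂ : Subgroup G} (h1 : Ctrl N S V₁) (h2 : Ctrl N S V₂) :
    Ctrl N S (V₁ ⊔ V₂) := by
  refine ⟨sup_le h1.1 h2.1, fun A hA n hn hnA => ?_⟩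
  obtain ⟨k₁, hk₁, hk₁a⟩ := h1.2 A hA n hn hnA
  obtain ⟨hk₁N, hk₁V⟩ := mem_inf.mp hk₁
  have hle : cj k₁ (A ⊔ V₁) ≤ S := by
    show (A ⊔ V₁).map _ ≤ S
    rw [Subgroup.map_sup]
    refine sup_le (cj_le_iff.mpr fun a ha => ?_) ?_
    · rw [hk₁a a ha]; exact cj_le_iff.mp hnA a ha
    · exact (ConjFunctor.mem_normalizer_iff_cj.mp hk₁V).le.trans h1.1
  obtain ⟨k₂, hk₂, hk₂a⟩ := h2.2 (A ⊔ V₁) (sup_le hA h1.1) k₁ hk₁N hle
  obtain ⟨hk₂N, hk₂V⟩ := mem_inf.mp hk₂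
  have hk₂V₁ : cj k₂ V₁ = V₁ := by
    conv_rhs => rw [← ConjFunctor.mem_normalizer_iff_cj.mp hk₁V]
    ext y
    constructor
    · rintro ⟨v, hv, rfl⟩
      exact ⟨v, hv, (hk₂a v (mem_sup_right hv)).symm⟩
    · rintro ⟨v, hv, rfl⟩
      exact ⟨v, hv, hk₂a v (mem_sup_right hv)⟩
  refine ⟨k₂, mem_inf.mpr ⟨hk₂N, ?_⟩, fun a ha =>
    (hk₂a a (mem_sup_left ha)).trans (hk₁a a ha)⟩
  rw [ConjFunctor.mem_normalizer_iff_cj]
  show (V₁ ⊔ V₂).map _ = _
  rw [Subgroup.map_sup]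
  congr 1
  exact ConjFunctor.mem_normalizer_iff_cj.mp hk₂V

theorem ctrl_cj {N S V : Subgroup G} [hN : N.Normal] (h : Ctrl N S V) {x : G}
    (hx : x ∈ Subgroup.normalizer (S : Set G)) : Ctrl N S (cj x V) := by
  have hxS := ConjFunctor.mem_normalizer_iff_cj.mp hx
  refine ⟨(cj_mono x h.1).trans hxS.le, fun A hA n hn hnA => ?_⟩
  obtain ⟨k, hk, hka⟩ := h.2 (cj x⁻¹ A)
    ((cj_mono x⁻¹ hA).trans (ConjFunctor.mem_normalizer_iff_cj.mp (inv_mem hx)).le) (x⁻¹ * n * x)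
    (hN.conj_mem' n hn x) (by
      rw [ConjFunctor.cj_cj, show x⁻¹ * n * x * x⁻¹ = x⁻¹ * n by group, ← ConjFunctor.cj_cj]
      exact (cj_mono x⁻¹ hnA).trans (ConjFunctor.mem_normalizer_iff_cj.mp (inv_mem hx)).le)
  obtain ⟨hkN, hkV⟩ := mem_inf.mp hk
  refine ⟨x * k * x⁻¹, mem_inf.mpr ⟨hN.conj_mem k hkN x, ConjFunctor.conj_mem_normalizer_cj hkV⟩,
    fun a ha => ?_⟩
  have := hka (x⁻¹ * a * x) (by rw [mem_cj, inv_inv]; simpa [mul_assoc] using ha)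
  calc x * k * x⁻¹ * a * (x * k * x⁻¹)⁻¹ = x * (k * (x⁻¹ * a * x) * k⁻¹) * x⁻¹ := by group
    _ = n * a * n⁻¹ := by rw [this]; group

theorem ctrl_iSup [Finite G] {N S : Subgroup G} {ι : Type*} [Finite ι] (V : ι → Subgroup G)
    (h : ∀ i, Ctrl N S (V i)) : Ctrl N S (⨆ i, V i) := by
  classical
  haveI := Fintype.ofFinite ι
  rw [← Finset.sup_univ_eq_iSup]
  generalize (Finset.univ : Finset ι) = s
  induction s using Finset.induction_on with
  | empty => exact ctrl_bot N S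
  | insert i s _ ih => rw [Finset.sup_insert]; exact ctrl_sup (h i) ih

theorem controls [Finite G] {p : ℕ} [Fact p.Prime] (N : Subgroup G) [hN : N.Normal] (P : Sylow p G)
    (V : Subgroup G) (h : Ctrl N ((P : Subgroup G) ⊓ N) V) (W : Subgroup G)
    (hW : W = closure (⋃ x ∈ Subgroup.normalizer (((P : Subgroup G) ⊓ N : Subgroup G) : Set G),
      ((cj x V : Subgroup G) : Set G)))
    (A : Subgroup G) (hA : A ≤ (P : Subgroup G)) (g : G) (hg : cj g A ≤ (P : Subgroup G)) :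
    ∃ k ∈ Subgroup.normalizer (W : Set G), ∃ c ∈ centralizer (A : Set G), g = k * c := by
  set S := (P : Subgroup G) ⊓ N with hS
  set M := Subgroup.normalizer (S : Set G) with hM
  have hWeq : W = ⨆ x : M, cj (x : G) V := by
    rw [hW]
    refine le_antisymm ((closure_le _).mpr ?_) (iSup_le fun x => ?_)
    · intro y hy
      simp only [Set.mem_iUnion] at hy
      obtain ⟨x, hx, hy⟩ := hy
      exact le_iSup (fun x : M => cj (x : G) V) ⟨x, hx⟩ hy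
    · intro y hy
      exact subset_closure (Set.mem_iUnion₂.mpr ⟨x, x.2, hy⟩)
  have hctrl : Ctrl N S W := hWeq ▸ ctrl_iSup _ fun x => ctrl_cj h x.2
  have hMW : M ≤ Subgroup.normalizer (W : Set G) := by
    intro m hm
    have hle : ∀ m ∈ M, cj m W ≤ W := by
      intro m hm
      rw [hWeq]
      show (⨆ x : M, cj (x : G) V).map _ ≤ _
      rw [Subgroup.map_iSup]
      refine iSup_le fun x => ?_
      show cj m (cj (x : G) V) ≤ _
      rw [ConjFunctor.cj_cj]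
      exact le_iSup (fun x : M => cj (x : G) V) ⟨m * x, M.mul_mem hm x.2⟩
    rw [ConjFunctor.mem_normalizer_iff_cj]
    refine Subgroup.eq_of_le_of_card_ge (hle m hm) ?_
    rw [ConjFunctor.card_cj]
  have hclosed : ∀ i, ∀ a ∈ lcs W i, ∀ g : G, g * a * g⁻¹ ∈ (P : Subgroup G) →
      g * a * g⁻¹ ∈ lcs W i := by
    intro i a ha g hg
    have haS : a ∈ S := hctrl.1 (lcs_le W i ha)
    have hgN : g * a * g⁻¹ ∈ N := hN.conj_mem a (mem_inf.mp haS).2 g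
    have htop : M ⊔ N = ⊤ := FusionMod.frattini_inf P N
    obtain ⟨m, hm, n, hn, rfl⟩ : ∃ m ∈ M, ∃ n ∈ N, g = m * n := by
      have hg' : g ∈ ((M ⊔ N : Subgroup G) : Set G) := by rw [htop]; trivial
      rw [Subgroup.mul_normal] at hg'
      obtain ⟨m, hm, n, hn, rfl⟩ := hg'
      exact ⟨m, hm, n, hn, rfl⟩
    have hgS : m * n * a * (m * n)⁻¹ ∈ S := mem_inf.mpr ⟨hg, hgN⟩
    have hnS : n * a * n⁻¹ ∈ S := by
      have h2 := (mem_normalizer_iff.mp (M.inv_mem hm) _).mp hgS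
      rwa [show m⁻¹ * (m * n * a * (m * n)⁻¹) * m⁻¹⁻¹ = n * a * n⁻¹ by group] at h2
    obtain ⟨k, hk, hka⟩ := hctrl.2 (zpowers a) (zpowers_le.mpr haS) n hn
      (cj_le_iff.mpr fun b hb => by
        obtain ⟨j, rfl⟩ := mem_zpowers_iff.mp hb
        rw [← conj_zpow]
        exact zpow_mem hnS j)
    have h1 : n * a * n⁻¹ ∈ lcs W i := by
      rw [← hka a (mem_zpowers a)]
      exact (mem_normalizer_iff.mp (normalizer_le_lcs W i (mem_inf.mp hk).2) a).mp ha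
    have h3 := (mem_normalizer_iff.mp (normalizer_le_lcs W i (hMW hm)) _).mp h1
    rwa [show m * (n * a * n⁻¹) * m⁻¹ = m * n * a * (m * n)⁻¹ by group] at h3
  have hPM : (P : Subgroup G) ≤ M := FusionMod.le_normalizer_inf P N
  obtain ⟨k, hk, hka⟩ := extends_of_closed P.2 P.not_dvd_index (hctrl.1.trans inf_le_left)
    (hPM.trans hMW) hclosed A hA g hg
  refine ⟨k, hk, k⁻¹ * g, mem_centralizer_iff.mpr fun a ha => ?_, by group⟩
  have h4 := hka a ha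
  calc a * (k⁻¹ * g) = k⁻¹ * (k * a * k⁻¹) * g := by group
    _ = k⁻¹ * (g * a * g⁻¹) * g := by rw [h4]
    _ = k⁻¹ * g * a := by group

end Cfsg.Agent.Lib.StrongControl
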